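import Mathlib
import Cfsg.Agent.Lib.SporMatrix.J3Sub

/-!
# `SL₂(16):2` inside the triple cover of J₃: the checks on codes

Words in three generators of the subgroup of order 24480 give a transvection, a diagonal element and
a Weyl element of `SL₂(16)`, and an element of order four acting on them.

Owner: helper60.
-/

set_option autoImplicit false
set_option maxRecDepth 8000

namespace Cfsg.Agent.Lib.J3L216

open Cfsg.Agent.Lib.SporMatrix Code9 J3Data J3Check J3SubData

/-- The generators of the subgroup of order 24480. -/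
def genC (j : ℕ) : ℕ := [elC elem17, elC elemK, scC 1].getD j Code9.one

/-- The transvection. -/
def uW : List ℕ := [0, 1, 0, 0, 1, 0, 0]

/-- The diagonal element. -/
def hW : List ℕ := [1, 0, 0, 1, 0, 0, 0, 1, 0, 1, 0, 0, 0, 0, 0, 0, 1, 0, 1, 0]

/-- The Weyl element. -/
def tW : List ℕ := [1, 0, 1, 0, 0, 0, 0, 0, 1, 0, 1, 0, 0, 0, 0, 0, 0]

/-- The element of order four. -/
def sW : List ℕ := [1, 0, 0, 1, 0, 0, 0, 0, 1, 0, 0, 0]

def uC : ℕ := wordC genC uW
def hC : ℕ := wordC genC hW
def tC : ℕ := wordC genC tW
def sC : ℕ := wordC genC sW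

/-- The three elements. -/
def sideC (j : ℕ) : ℕ := [uC, hC, tC].getD j Code9.one

/-- The conjugates of the three elements by the fourth and its square, as words. -/
def cuW : List ℕ := [2, 1, 1, 1, 1]
def chW : List ℕ := [1, 2, 0, 1]
def ctW : List ℕ := [0, 2, 1, 0]
def ssW : List ℕ := [1, 0, 1, 0, 2, 0, 1, 2]

/-- The relations of `SL₂(16)`. -/
def relB : Bool :=
  Nat.beq (mul uC uC) Code9.one && Nat.beq (mul tC tC) Code9.one && Nat.beq (powC hC 15) Code9.one &&
  Nat.beq (mul tC uC) (mul (mul (mul uC tC) uC) tC) &&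
  Nat.beq (mul (powC hC 4) uC) (mul (mul (mul uC hC) uC) (powC hC 3)) &&
  (fun x y => Nat.beq (mul tC hC) (mul (mul x (mul (mul tC y) tC)) x))
    (mul (mul (powC hC 7) uC) (powC hC 8)) (mul (mul (powC hC 8) uC) (powC hC 7))

/-- The fourth element acts on the group of the three others. -/
def actB : Bool :=
  Nat.beq (mul sC uC) (mul (wordC sideC cuW) sC) && Nat.beq (mul sC hC) (mul (wordC sideC chW) sC) &&
  Nat.beq (mul sC tC) (mul (wordC sideC ctW) sC) && Nat.beq (mul sC sC) (wordC sideC ssW) &&
  Nat.beq (powC sC 4) Code9.one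

/-- The transvection and the square of the fourth element are no scalars. -/
def outB : Bool :=
  [0, 1, 2].all fun k => !(Nat.beq uC (scC k)) && !(Nat.beq (mul sC sC) (scC k))

theorem rel_ok : relB = true := by decide +kernel

theorem act_ok : actB = true := by decide +kernel

theorem out_ok : outB = true := by decide +kernel

end Cfsg.Agent.Lib.J3L216
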