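import Mathlib
import Cfsg.Agent.Lib.Linear.Order
import Cfsg.Agent.Lib.Linear.Simple
import Cfsg.Agent.Lib.ShortPresSL2.Main

/-!
# `SL₂(16)` on three generators

Three elements satisfying four relations are the image of `SL₂(16)`.

Owner: helper60.
-/

set_option autoImplicit false
set_option linter.style.haveILetI false

namespace Cfsg.Agent.Lib.J3L216

open Polynomial Subgroup ShortPresSL2

/-- The relations of `SL₂(16)` on a transvection, a diagonal element and the Weyl element. -/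
structure Rels {G : Type*} [Group G] (u h t : G) : Prop where
  sq : u * u = 1
  braid : t * u * t⁻¹ = u * t * u
  step : h ^ 4 * u * (h ^ 4)⁻¹ = u * (h * u * h⁻¹)
  twist : t * h = (h ^ 8)⁻¹ * u * h ^ 8 * (t * (h ^ 8 * u * (h ^ 8)⁻¹) * t⁻¹) *
    ((h ^ 8)⁻¹ * u * h ^ 8)

variable {F : Type*} [Field F] [Fintype F]

/-- A field of order 16 is generated by a root of `X ^ 4 + X + 1`. -/
theorem exists_root (hF : Fintype.card F = 16) (h2 : (2 : F) = 0) :
    ∃ ω : Fˣ, (ω : F) ^ 4 = ω + 1 ∧ ∀ x : Fˣ, ∃ k : ℕ, ω ^ k = x := by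
  obtain ⟨a, ha⟩ : ∃ a : F, a ^ 4 = a + 1 := by
    by_contra hno
    push Not at hno
    let Q : F[X] := X ^ 12 + X ^ 9 + X ^ 8 + X ^ 6 + X ^ 4 + X ^ 3 + X ^ 2 + X
    have hQ : Q.natDegree = 12 := by
      simp only [Q]
      compute_degree!
    have hzero : Q = 0 := by
      refine eq_zero_of_natDegree_lt_card_of_eval_eq_zero Q Function.injective_id (fun x => ?_)
        (by rw [hQ, hF]; norm_num)
      have h16 : x ^ 16 = x := hF ▸ FiniteField.pow_card x
      have hne : x ^ 4 + x + 1 ≠ 0 := fun e => hno x (by linear_combination e - (x + 1) * h2)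
      have : (x ^ 4 + x + 1) * Q.eval x = 0 := by
        simp only [Q, eval_add, eval_pow, eval_X]
        linear_combination h16 +
          (x ^ 13 + x ^ 12 + x ^ 10 + x ^ 9 + x ^ 8 + x ^ 7 + x ^ 6 + x ^ 5 + x ^ 4 + x ^ 3 + x ^ 2 + x) * h2
      exact (mul_eq_zero.1 this).resolve_left hne
    rw [hzero, natDegree_zero] at hQ
    exact absurd hQ (by norm_num)
  have ha0 : a ≠ 0 := by
    rintro rfl
    exact one_ne_zero (α := F) (by linear_combination -ha)
  refine ⟨Units.mk0 a ha0, ha, fun x => ?_⟩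
  have hd : orderOf (Units.mk0 a ha0) ∣ 15 :=
    orderOf_dvd_of_pow_eq_one (Units.ext (by
      rw [Units.val_pow_eq_pow_val, show (15 : ℕ) = Fintype.card F - 1 by omega]
      exact FiniteField.pow_card_sub_one_eq_one a ha0))
  have hord : orderOf (Units.mk0 a ha0) = 15 := by
    have hm : orderOf (Units.mk0 a ha0) ∈ Nat.divisors 15 := Nat.mem_divisors.2 ⟨hd, by norm_num⟩
    rw [show Nat.divisors 15 = {1, 3, 5, 15} by decide] at hm
    have e := pow_orderOf_eq_one (Units.mk0 a ha0)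
    simp only [Finset.mem_insert, Finset.mem_singleton] at hm
    rcases hm with hm | hm | hm | hm
    · exfalso
      have e' : a ^ 1 = 1 := by simpa [hm] using congrArg Units.val e
      rw [pow_one] at e'
      subst e'
      exact one_ne_zero (α := F) (by linear_combination -ha)
    · exfalso
      have e' : a ^ 3 = 1 := by simpa [hm] using congrArg Units.val e
      exact one_ne_zero (α := F) (by linear_combination -ha + a * e')
    · exfalso
      have e' : a ^ 5 = 1 := by simpa [hm] using congrArg Units.val e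
      have e2 : a ^ 2 = a + 1 := by linear_combination e' - a * ha - a * h2
      exact one_ne_zero (α := F) (by linear_combination ha - (a ^ 2 + a + 2) * e2 - a * h2)
    · exact hm
  have htop : zpowers (Units.mk0 a ha0) = ⊤ := by
    classical
    refine eq_top_of_card_eq _ ?_
    rw [Nat.card_zpowers, hord, Nat.card_units, Nat.card_eq_fintype_card, hF]
  exact mem_powers_iff_mem_zpowers.2 (htop ▸ mem_top x)

theorem two_eq_zero (hF : Fintype.card F = 16) : (2 : F) = 0 := by
  have h : ((16 : ℕ) : F) = 0 := hF ▸ FiniteField.cast_card_eq_zero F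
  have h4 : (2 : F) ^ 4 = 0 := by rw [← h]; norm_num
  exact pow_eq_zero_iff (by norm_num) |>.1 h4

theorem charP_two (hF : Fintype.card F = 16) : CharP F 2 :=
  CharP.charP_iff_prime_eq_zero Nat.prime_two |>.2 (by exact_mod_cast two_eq_zero hF)

/-- The relations hold in `SL₂(16)`. -/
theorem rels_sl [CharP F 2] {ω : Fˣ} (hω : (ω : F) ^ 4 = ω + 1) (hω15 : (ω : F) ^ 15 = 1) :
    Rels (matU (1 : F)) (matD ω) (matT : Matrix.SpecialLinearGroup (Fin 2) F) := by
  have h20 : (1 : F) + 1 = 0 := CharTwo.add_self_eq_zero 1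
  refine ⟨by simp [← matU_add, h20, matU_zero], ?_, ?_, ?_⟩
  · simpa [matD_one, CharTwo.neg_eq] using matT_conj_matU (1 : Fˣ)
  · rw [matD_pow, matD_conj, matD_conj, ← matU_add, Units.val_pow_eq_pow_val]
    congr 1
    linear_combination ((ω : F) ^ 4 + ω + 1) * hω + (ω : F) * h20
  · have e1 : ((ω ^ 8 : Fˣ) : F) ^ 2 = (ω : F) := by
      rw [Units.val_pow_eq_pow_val, ← pow_mul, show 8 * 2 = 15 + 1 by norm_num, pow_succ, hω15, one_mul]
    have e2 : (((ω ^ 8)⁻¹ : Fˣ) : F) ^ 2 = (ω : F)⁻¹ := by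
      rw [Units.val_inv_eq_inv_val, inv_pow, e1]
    rw [matD_pow, matD_inv_conj, matD_conj, e1, e2, mul_one, mul_one, matT_conj_matU ω]
    refine Subtype.ext ?_
    simp only [Matrix.SpecialLinearGroup.coe_mul]
    simp [matT, matD, matU, CharTwo.neg_eq, Units.val_inv_eq_inv_val, h20, CharTwo.add_self_eq_zero]

/-- A group generated by three elements with the relations has at most 4080 elements. -/
theorem card_le {G : Type*} [Group G] (hF : Fintype.card F = 16) {u h t : G} (hr : Rels u h t)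
    (hgen : closure ({u, h, t} : Set G) = ⊤) : Finite G ∧ Nat.card G ≤ 4080 := by
  haveI := charP_two hF
  haveI : Fact (Nat.Prime 2) := ⟨Nat.prime_two⟩
  letI : Algebra (ZMod 2) F := ZMod.algebra F 2
  obtain ⟨ω, hω, hωg⟩ := exists_root hF (two_eq_zero hF)
  have hω15 : (ω : F) ^ 15 = 1 := by
    rw [show (15 : ℕ) = Fintype.card F - 1 by omega]
    exact FiniteField.pow_card_sub_one_eq_one _ ω.ne_zero
  set α : F := (ω : F) ^ 2 with hαd
  have hα : α ^ 4 + α + 1 = 0 := by
    rw [hαd]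
    linear_combination ((ω : F) ^ 4 + ω + 1) * hω + ((ω : F) ^ 2 + ω + 1) * two_eq_zero hF
  have hsurj : Function.Surjective (aeval α : (ZMod 2)[X] → F) := by
    intro x
    rcases eq_or_ne x 0 with rfl | hx
    · exact ⟨0, map_zero _⟩
    · obtain ⟨k, hk⟩ := hωg (Units.mk0 x hx)
      refine ⟨X ^ (8 * k), ?_⟩
      rw [map_pow, aeval_X, hαd, ← pow_mul, show 2 * (8 * k) = 15 * k + k by ring, pow_add, pow_mul,
        hω15, one_pow, one_mul, ← Units.val_pow_eq_pow_val, hk, Units.val_mk0]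
  obtain ⟨huu, hbraid, hb, hth8⟩ := hr
  have hu2 : u ^ 2 = 1 := by rw [pow_two, huu]
  have hu' : u⁻¹ = u := inv_eq_of_mul_eq_one_right huu
  have ht2 : t * t = 1 := by
    have e : t = u * (t * u * t⁻¹) * u := by
      rw [hbraid]
      calc t = u * u * t * (u * u) := by rw [huu, one_mul, mul_one]
        _ = _ := by group
    calc t * t = u * (t * u * t⁻¹) * u * (u * (t * u * t⁻¹) * u) := congrArg₂ (· * ·) e e
      _ = u * (t * u * t⁻¹) * (u * u) * (t * u * t⁻¹) * u := by group
      _ = u * ((t * u * t⁻¹) * (t * u * t⁻¹)) * u := by rw [huu]; group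
      _ = u * (t * (u * u) * t⁻¹) * u := by group
      _ = 1 := by rw [huu]; simp [huu]
  have ht' : t⁻¹ = t := inv_eq_of_mul_eq_one_right ht2
  set x := (h ^ 8)⁻¹ * u * h ^ 8 with hxd
  set y := h ^ 8 * u * (h ^ 8)⁻¹ with hyd
  have hx2 : x * x = 1 := by
    calc x * x = (h ^ 8)⁻¹ * (u * u) * h ^ 8 := by rw [hxd]; group
      _ = 1 := by rw [huu]; group
  have hy2 : y * y = 1 := by
    calc y * y = h ^ 8 * (u * u) * (h ^ 8)⁻¹ := by rw [hyd]; group
      _ = 1 := by rw [huu]; group
  have hth : t * h * t⁻¹ = h⁻¹ := by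
    refine eq_inv_of_mul_eq_one_left ?_
    have : t * h * (t * h) = 1 := by
      rw [hth8]
      calc x * (t * y * t⁻¹) * x * (x * (t * y * t⁻¹) * x)
          = x * (t * y * t⁻¹) * (x * x) * (t * y * t⁻¹) * x := by group
        _ = x * (t * (y * y) * t⁻¹) * x := by rw [hx2]; group
        _ = 1 := by rw [hy2]; simp [hx2]
    rw [ht']
    calc t * h * t * h = t * h * (t * h) := by group
      _ = 1 := this
  have hh15 : h ^ 15 = 1 := by
    have hconj : ∀ i : ℕ, t * h ^ i = (h ^ i)⁻¹ * t := fun i => by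
      rw [← mul_inv_eq_iff_eq_mul, ← conj_pow, hth, inv_pow]
    have hc : (h ^ 8)⁻¹ * t * h ^ 8 = t * h ^ 16 := by
      rw [← hconj, mul_assoc, ← pow_add]
    have hb' : t = u * (t * u * t) * u := by
      conv_rhs => rw [show t * u * t = t * u * t⁻¹ by rw [ht'], hbraid]
      calc t = u * u * t * (u * u) := by rw [huu, one_mul, mul_one]
        _ = _ := by group
    have hm : (h ^ 8)⁻¹ * (t * u * t) * h ^ 8 = t * y * t := by
      have e : t * h ^ 8 * t = (h ^ 8)⁻¹ := by rw [hconj, mul_assoc, ht2, mul_one]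
      calc (h ^ 8)⁻¹ * (t * u * t) * h ^ 8 = (t * h ^ 8 * t) * (t * u * t) * h ^ 8 := by rw [e]
        _ = t * h ^ 8 * (t * t) * u * (t * h ^ 8) := by group
        _ = t * h ^ 8 * (t * t) * u * ((h ^ 8)⁻¹ * t) :=
          congrArg (t * h ^ 8 * (t * t) * u * ·) (hconj 8)
        _ = t * (h ^ 8 * u * (h ^ 8)⁻¹) * t := by rw [ht2]; group
    have key : t * h ^ 16 = t * h := by
      rw [← hc]
      conv_lhs => rw [hb']
      calc (h ^ 8)⁻¹ * (u * (t * u * t) * u) * h ^ 8
          = ((h ^ 8)⁻¹ * u * h ^ 8) * ((h ^ 8)⁻¹ * (t * u * t) * h ^ 8) * ((h ^ 8)⁻¹ * u * h ^ 8) := by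
            group
        _ = x * (t * y * t⁻¹) * x := by rw [hm, ht']
        _ = t * h := hth8.symm
    have := mul_left_cancel key
    rw [pow_succ] at this
    exact mul_eq_right.1 this
  have hv : (h * u * h⁻¹) * (h * u * h⁻¹) = 1 := by
    calc (h * u * h⁻¹) * (h * u * h⁻¹) = h * (u * u) * h⁻¹ := by group
      _ = 1 := by rw [huu]; group
  have hc1 : Commute u (h * u * h⁻¹) := by
    have h4 : (u * (h * u * h⁻¹)) * (u * (h * u * h⁻¹)) = 1 := by
      rw [← hb]
      calc h ^ 4 * u * (h ^ 4)⁻¹ * (h ^ 4 * u * (h ^ 4)⁻¹) = h ^ 4 * (u * u) * (h ^ 4)⁻¹ := by group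
        _ = 1 := by rw [huu]; group
    show u * (h * u * h⁻¹) = h * u * h⁻¹ * u
    rw [eq_inv_of_mul_eq_one_left h4, _root_.mul_inv_rev, inv_eq_of_mul_eq_one_right hv, hu']
  have hcomm := commute_conj_pow_of_step (Commute.pow_self h 4) hc1 hb
  obtain ⟨Φ, hΦ1, hΦX⟩ := exists_hom_polynomial (p := 2) hu2 hcomm
  have hpow : ∀ i : ℕ, Φ (.ofAdd (X ^ i)) = h ^ i * u * (h ^ i)⁻¹ := by
    intro i
    induction i with
    | zero => simp [hΦ1]
    | succ i ih => rw [pow_succ', hΦX, ih, pow_succ']; group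
  have hpol : polyWord u h (X ^ 4 + X + 1 : (ZMod 2)[X]) = 1 := by
    rw [polyWord_eq X Φ hΦ1 hΦX, aeval_X_left_apply, ofAdd_add, ofAdd_add, map_mul, map_mul, hpow 4,
      hΦ1, show Φ (.ofAdd X) = h * u * h⁻¹ by simpa using hpow 1, hb, mul_assoc u, hv, mul_one, huu]
  have hminp : minpoly (ZMod 2) α = (X ^ 4 + X + 1 : (ZMod 2)[X]) := by
    have hint : IsIntegral (ZMod 2) α := Algebra.IsIntegral.isIntegral α
    have hdvd : minpoly (ZMod 2) α ∣ (X ^ 4 + X + 1 : (ZMod 2)[X]) :=
      minpoly.dvd _ _ (by simpa using hα)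
    refine (eq_of_monic_of_dvd_of_natDegree_le (minpoly.monic hint) (by monicity!) hdvd ?_).symm
    have htop : IntermediateField.adjoin (ZMod 2) {α} = ⊤ := eq_top_iff.2 fun z _ => by
      obtain ⟨P, rfl⟩ := hsurj z
      exact IntermediateField.algebra_adjoin_le_adjoin _ _ (aeval_mem_adjoin_singleton _ _)
    have h4 : Module.finrank (ZMod 2) F = 4 := by
      have := Module.card_eq_pow_finrank (K := ZMod 2) (V := F)
      rw [hF, ZMod.card] at this
      exact (Nat.pow_right_injective le_rfl (this.symm.trans (by norm_num : 16 = 2 ^ 4)))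
    have hd : (minpoly (ZMod 2) α).natDegree = 4 := by
      rw [← IntermediateField.adjoin.finrank hint, htop, IntermediateField.finrank_top', h4]
    rw [hd]
    compute_degree
  obtain ⟨f, hf1, -, hfh⟩ := exists_hom_field α α hsurj hu2 hcomm (by rw [hminp]; exact hpol)
    (Commute.refl h) (aeval_X α) (by rw [polyWord_X])
  have hst := steinberg_of_two f ω hωg hfh hth (m := 15) ⟨7, by norm_num⟩
    ⟨1, 1, 0, by rw [hf1, zpow_zero, mul_one, hbraid]⟩
    ⟨1, 1, 0, by rw [hω15, hf1, zpow_zero, mul_one, hbraid]⟩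
  have hgen' : closure (Set.range f ∪ {h, t}) = ⊤ := by
    rw [eq_top_iff, ← hgen]
    refine closure_mono ?_
    rintro z (rfl | rfl | rfl)
    exacts [Or.inl ⟨_, hf1⟩, Or.inr (Or.inl rfl), Or.inr (Or.inr rfl)]
  obtain ⟨hfin, hle⟩ := finite_and_card_le f α (pow_ne_zero 2 ω.ne_zero) (by norm_num : 0 < 15) hh15 hfh
    hth ⟨0, by rw [zpow_zero, ht2]⟩ hgen' hst
  exact ⟨hfin, hle.trans (by rw [Nat.card_eq_fintype_card, hF])⟩

/-- `SL₂(16)` is simple. -/
theorem isSimpleGroup_SL (hF : Fintype.card F = 16) :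
    IsSimpleGroup (Matrix.SpecialLinearGroup (Fin 2) F) := by
  have hc : Subgroup.center (Matrix.SpecialLinearGroup (Fin 2) F) = ⊥ :=
    eq_bot_of_card_eq _ (by
      rw [Linear.card_center_SL, Fintype.card_fin, Nat.card_eq_fintype_card, hF]; rfl)
  haveI : IsSimpleGroup (Matrix.ProjectiveSpecialLinearGroup (Fin 2) F) :=
    Linear.isSimpleGroup_PSL le_rfl (fun _ => by rw [Nat.card_eq_fintype_card, hF]; norm_num)
  exact ((QuotientGroup.quotientBot.symm.trans (QuotientGroup.quotientMulEquivOfEq hc.symm)).isSimpleGroup)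

/-- Three elements with the relations are an image of `SL₂(16)`, faithful unless trivial. -/
theorem exists_hom {G : Type*} [Group G] (hF : Fintype.card F = 16) {u h t : G} (hr : Rels u h t) :
    ∃ f : Matrix.SpecialLinearGroup (Fin 2) F →* G,
      f.range = closure {u, h, t} ∧ (u ≠ 1 → Function.Injective f) := by
  haveI := charP_two hF
  haveI : Fact (Nat.Prime 2) := ⟨Nat.prime_two⟩
  letI : Algebra (ZMod 2) F := ZMod.algebra F 2
  obtain ⟨ω, hω, hωg⟩ := exists_root hF (two_eq_zero hF)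
  have hω15 : (ω : F) ^ 15 = 1 := by
    rw [show (15 : ℕ) = Fintype.card F - 1 by omega]
    exact FiniteField.pow_card_sub_one_eq_one _ ω.ne_zero
  have hs := rels_sl hω hω15
  let S : Set (G × Matrix.SpecialLinearGroup (Fin 2) F) := {(u, matU 1), (h, matD ω), (t, matT)}
  let P := closure S
  have hu : (u, matU (1 : F)) ∈ P := subset_closure (by simp [S])
  have hh : (h, matD ω) ∈ P := subset_closure (by simp [S])
  have ht : (t, (matT : Matrix.SpecialLinearGroup (Fin 2) F)) ∈ P := subset_closure (by simp [S])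
  obtain ⟨hfin, hle⟩ := card_le (F := F) hF (u := (⟨_, hu⟩ : P)) (h := ⟨_, hh⟩) (t := ⟨_, ht⟩)
    ⟨Subtype.ext (Prod.ext hr.sq hs.sq), Subtype.ext (Prod.ext hr.braid hs.braid),
      Subtype.ext (Prod.ext hr.step hs.step), Subtype.ext (Prod.ext hr.twist hs.twist)⟩
    (by
      rw [eq_top_iff, ← closure_closure_coe_preimage (k := S)]
      refine closure_mono ?_
      rintro ⟨z, hz⟩ hzS
      simp only [Set.mem_preimage, S, Set.mem_insert_iff, Set.mem_singleton_iff] at hzS
      rcases hzS with rfl | rfl | rfl <;> simp)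
  let pr : P →* Matrix.SpecialLinearGroup (Fin 2) F := (MonoidHom.snd _ _).comp P.subtype
  have hsurj : Function.Surjective pr := by
    rw [← MonoidHom.range_eq_top, eq_top_iff, ← closure_eq_top hωg (p := 2) 1 ?_, closure_le]
    · rintro z (rfl | rfl | rfl)
      exacts [⟨⟨_, hu⟩, rfl⟩, ⟨⟨_, hh⟩, rfl⟩, ⟨⟨_, ht⟩, rfl⟩]
    · intro z
      rcases eq_or_ne z 0 with rfl | hz
      · exact ⟨0, map_zero _⟩
      · obtain ⟨k, hk⟩ := hωg (Units.mk0 z hz)
        refine ⟨X ^ (8 * k), ?_⟩
        rw [map_pow, aeval_X, pow_one, ← pow_mul, show 2 * (8 * k) = 15 * k + k by ring, pow_add,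
          pow_mul, hω15, one_pow, one_mul, ← Units.val_pow_eq_pow_val, hk, Units.val_mk0]
  have hcard : Nat.card P = Nat.card (Matrix.SpecialLinearGroup (Fin 2) F) :=
    le_antisymm (by rw [Linear.card_SL_two, hF]; exact hle) (Nat.card_le_card_of_surjective pr hsurj)
  let e := MulEquiv.ofBijective pr ((Nat.bijective_iff_surjective_and_card pr).2 ⟨hsurj, hcard⟩)
  let f : Matrix.SpecialLinearGroup (Fin 2) F →* G :=
    ((MonoidHom.fst _ _).comp P.subtype).comp e.symm.toMonoidHom
  have hrange : f.range = closure {u, h, t} := by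
    have : f.range = P.map (MonoidHom.fst G (Matrix.SpecialLinearGroup (Fin 2) F)) := by
      ext z
      constructor
      · rintro ⟨s, rfl⟩; exact ⟨_, (e.symm s).2, rfl⟩
      · rintro ⟨q, hq, rfl⟩
        refine ⟨e ⟨q, hq⟩, ?_⟩
        show (e.symm (e ⟨q, hq⟩)).1.1 = _
        rw [MulEquiv.symm_apply_apply]
        rfl
    rw [this, MonoidHom.map_closure]
    simp [S, Set.image_insert_eq]
  refine ⟨f, hrange, fun hne => ?_⟩
  rw [← MonoidHom.ker_eq_bot_iff]
  haveI := isSimpleGroup_SL hF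
  refine (IsSimpleGroup.eq_bot_or_eq_top_of_normal f.ker inferInstance).resolve_right fun htop => hne ?_
  have : u ∈ f.range := hrange ▸ subset_closure (by simp)
  obtain ⟨s, hsu⟩ := this
  rw [← hsu]
  exact MonoidHom.mem_ker.1 (htop ▸ mem_top s)

end Cfsg.Agent.Lib.J3L216
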