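import Mathlib
import Cfsg.Agent.Lib.SporMatrix.J3
import Cfsg.Agent.Lib.J3L216.Pres
import Cfsg.Agent.Lib.J3L216.Check

/-!
# J₃ contains `SL₂(16):2`

`exists_subgroup_of_isoJ3`: a group isomorphic to J₃ has a subgroup with a normal subgroup of index 2
isomorphic to `SL₂(16)`.

Owner: helper60.
-/

set_option autoImplicit false
set_option linter.style.haveILetI false

namespace Cfsg.Agent.Lib.J3L216

open Cfsg.Spor Cfsg.Agent.Lib.SporMatrix Cfsg.Agent.Lib.SporMatrix.J3 Code9 J3Data J3Check J3SubData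

/-- The value of a word. -/
def wval {G : Type*} [Group G] (f : ℕ → G) (w : List ℕ) : G := (w.map f).prod

theorem wval_cons {G : Type*} [Group G] (f : ℕ → G) (j : ℕ) (w : List ℕ) :
    wval f (j :: w) = f j * wval f w := by simp [wval]

theorem wval_mem {G : Type*} [Group G] {f : ℕ → G} {K : Subgroup G} (h : ∀ j, f j ∈ K) (w : List ℕ) :
    wval f w ∈ K := by
  induction w with
  | nil => simp [wval]
  | cons j w ih => rw [wval_cons]; exact K.mul_mem (h j) ih

section code

variable {F : Type*} [Field F] {ω : F} [Finite F] (hg : Good F ω)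

include hg

theorem hasCode_wval {f : ℕ → ↥(threeJ3 F ω)} {g : ℕ → ℕ} (h : ∀ j, HasCode (f j) (g j)) :
    ∀ w, HasCode (wval f w) (wordC g w)
  | [] => by simpa [wval, wordC] using hasCode_one (ω := ω) hg
  | j :: w => by rw [wval_cons, wordC]; exact HasCode.mul' hg (h j) (hasCode_wval h w)

/-- The configuration inside the triple cover. -/
theorem exists_config : ∃ u h t s : ↥(threeJ3 F ω), Rels u h t ∧
    u ∉ Subgroup.center ↥(threeJ3 F ω) ∧ s * s ∉ Subgroup.center ↥(threeJ3 F ω) ∧ s ^ 4 = 1 ∧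
    s * u * s⁻¹ ∈ Subgroup.closure {u, h, t} ∧ s * h * s⁻¹ ∈ Subgroup.closure {u, h, t} ∧
    s * t * s⁻¹ ∈ Subgroup.closure {u, h, t} ∧ s * s ∈ Subgroup.closure {u, h, t} := by
  obtain ⟨a, ha⟩ := exists_el hg elem17
  obtain ⟨b, hb⟩ := exists_el hg elemK
  obtain ⟨c, hc⟩ := exists_el hg (scalars.getD 1 ⟨0, 0, 0, 0, 0⟩)
  set gen : ℕ → ↥(threeJ3 F ω) := fun j => [a, b, c].getD j 1 with hgen
  have hgenC : ∀ j, HasCode (gen j) (genC j) := by
    intro j
    match j with
    | 0 => exact ha
    | 1 => exact hb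
    | 2 => exact hc
    | n + 3 => simpa [hgen, genC] using hasCode_one (ω := ω) hg
  set u := wval gen uW
  set h := wval gen hW
  set t := wval gen tW
  set s := wval gen sW
  have hu : HasCode u uC := hasCode_wval hg hgenC uW
  have hh : HasCode h hC := hasCode_wval hg hgenC hW
  have ht : HasCode t tC := hasCode_wval hg hgenC tW
  have hs : HasCode s sC := hasCode_wval hg hgenC sW
  clear_value u h t s
  set side : ℕ → ↥(threeJ3 F ω) := fun j => [u, h, t].getD j 1 with hside
  have hsideC : ∀ j, HasCode (side j) (sideC j) := by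
    intro j
    match j with
    | 0 => simp only [hside, sideC, List.getD_cons_zero]; exact hu
    | 1 => simp only [hside, sideC, List.getD_cons_zero, List.getD_cons_succ]; exact hh
    | 2 => simp only [hside, sideC, List.getD_cons_zero, List.getD_cons_succ]; exact ht
    | n + 3 => simpa [hside, sideC] using hasCode_one (ω := ω) hg
  have hsidemem : ∀ j, side j ∈ Subgroup.closure {u, h, t} := by
    intro j
    match j with
    | 0 => exact Subgroup.subset_closure (Or.inl rfl)
    | 1 => exact Subgroup.subset_closure (Or.inr (Or.inl rfl))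
    | 2 => exact Subgroup.subset_closure (Or.inr (Or.inr rfl))
    | n + 3 => simpa [hside] using one_mem _
  have m := fun {x y : ↥(threeJ3 F ω)} {a b : ℕ} (hx : HasCode x a) (hy : HasCode y b) =>
    HasCode.mul' hg hx hy
  have eqv : ∀ {x y : ↥(threeJ3 F ω)} {a b : ℕ}, HasCode x a → HasCode y b → Nat.beq a b = true → x = y :=
    fun hx hy e => HasCode.ext hx (Nat.eq_of_beq_eq_true e ▸ hy)
  have hr := rel_ok
  have hact := act_ok
  simp only [relB, actB, Bool.and_eq_true] at hr hact
  obtain ⟨⟨⟨⟨⟨r1, r2⟩, r3⟩, r4⟩, r5⟩, r6⟩ := hr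
  obtain ⟨⟨⟨⟨a1, a2⟩, a3⟩, a4⟩, a5⟩ := hact
  have huu : u * u = 1 := eqv (m hu hu) (hasCode_one hg) r1
  have htt : t * t = 1 := eqv (m ht ht) (hasCode_one hg) r2
  have hh15 : h ^ 15 = 1 := eqv (HasCode.pow' hg hh 15) (hasCode_one hg) r3
  have e4 : t * u = u * t * u * t := eqv (m ht hu) (m (m (m hu ht) hu) ht) r4
  have e5 : h ^ 4 * u = u * h * u * h ^ 3 :=
    eqv (m (HasCode.pow' hg hh 4) hu) (m (m (m hu hh) hu) (HasCode.pow' hg hh 3)) r5
  have hX := m (m (HasCode.pow' hg hh 7) hu) (HasCode.pow' hg hh 8)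
  have hY := m (m (HasCode.pow' hg hh 8) hu) (HasCode.pow' hg hh 7)
  have e6 : t * h = h ^ 7 * u * h ^ 8 * (t * (h ^ 8 * u * h ^ 7) * t) * (h ^ 7 * u * h ^ 8) :=
    eqv (m ht hh) (m (m hX (m (m ht hY) ht)) hX) r6
  have hti : t⁻¹ = t := inv_eq_of_mul_eq_one_right htt
  have h8i : (h ^ 8)⁻¹ = h ^ 7 := inv_eq_of_mul_eq_one_right (by rw [← pow_add]; exact hh15)
  have hrel : Rels u h t := by
    refine ⟨huu, ?_, ?_, ?_⟩
    · rw [hti, e4, mul_assoc _ t t, htt, mul_one]
    · rw [e5, pow_succ' h 3, mul_inv_rev]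
      group
    · rw [h8i, hti]; exact e6
  have hconj : ∀ {x : ↥(threeJ3 F ω)} {a : ℕ} (w : List ℕ), HasCode x a →
      Nat.beq (mul sC a) (mul (wordC sideC w) sC) = true →
      s * x * s⁻¹ ∈ Subgroup.closure {u, h, t} := fun {x a} w hx e => by
    rw [eqv (m hs hx) (m (hasCode_wval hg hsideC w) hs) e, mul_inv_cancel_right]
    exact wval_mem hsidemem w
  have hcen : ∀ {x : ↥(threeJ3 F ω)} {a : ℕ}, HasCode x a → x ∈ Subgroup.center ↥(threeJ3 F ω) →
      ∃ k < 3, a = scC k := fun hx hxc => by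
    obtain ⟨k, hk, hxk⟩ := scalar_of_comm hg hxc
    exact ⟨k, hk, HasCode.code_eq hg hx hxk⟩
  have hout := out_ok
  simp only [outB, List.all_cons, List.all_nil, Bool.and_eq_true, Bool.not_eq_true', Bool.and_true] at hout
  obtain ⟨⟨u0, s0⟩, ⟨u1, s1⟩, u2, s2⟩ := hout
  have hne : ∀ {x y : ℕ}, Nat.beq x y = false → x ≠ y := fun e he => by
    rw [he] at e; simp at e
  refine ⟨u, h, t, s, hrel, fun hc' => ?_, fun hc' => ?_, eqv (HasCode.pow' hg hs 4) (hasCode_one hg) a5,
    hconj cuW hu a1, hconj chW hh a2, hconj ctW ht a3,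
    (eqv (m hs hs) (hasCode_wval hg hsideC ssW) a4).symm ▸ wval_mem hsidemem ssW⟩
  · obtain ⟨k, hk, e⟩ := hcen hu hc'
    interval_cases k
    exacts [hne u0 e, hne u1 e, hne u2 e]
  · obtain ⟨k, hk, e⟩ := hcen (m hs hs) hc'
    interval_cases k
    exacts [hne s0 e, hne s1 e, hne s2 e]

end code

/-- An element of `SL₂` in characteristic two with fourth power one is an involution. -/
theorem sq_eq_one {K : Type*} [Field K] [CharP K 2] (x : Matrix.SpecialLinearGroup (Fin 2) K)
    (hx : x ^ 4 = 1) : x * x = 1 := by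
  rw [show (4 : ℕ) = 2 + 2 from rfl, pow_add, pow_two] at hx
  obtain ⟨M, hM⟩ := x
  have h2 : (2 : K) = 0 := CharTwo.two_eq_zero
  have hM' : M 0 0 * M 1 1 - M 0 1 * M 1 0 = 1 := by rw [← Matrix.det_fin_two]; exact hM
  have h4 : M * M * (M * M) = 1 := congrArg Subtype.val hx
  have e00 := congrFun (congrFun h4 0) 0
  have e11 := congrFun (congrFun h4 1) 1
  simp [Matrix.mul_apply, Fin.sum_univ_two] at e00 e11
  have hs4 : (M 0 0 + M 1 1) ^ 4 = 0 := by
    linear_combination e00 + e11 + (4 * (M 0 0 + M 1 1) ^ 2 -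
      2 * (M 0 0 * M 1 1 - M 0 1 * M 1 0) - 2) * hM' + (2 * (M 0 0 + M 1 1) ^ 2) * h2
  have hs : M 0 0 + M 1 1 = 0 := pow_eq_zero_iff (by norm_num) |>.1 hs4
  apply Subtype.ext
  show M * M = 1
  ext i j
  fin_cases i <;> fin_cases j <;> simp [Matrix.mul_apply, Fin.sum_univ_two]
  · linear_combination M 0 0 * hs - hM' - h2
  · linear_combination M 0 1 * hs
  · linear_combination M 1 0 * hs
  · linear_combination M 1 1 * hs - hM' - h2

/-- A subgroup normalised by an element with square inside extends with index two. -/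
theorem exists_index_two {G : Type*} [Group G] {N : Subgroup G} {σ : G}
    (hconj : ∀ n ∈ N, σ * n * σ⁻¹ ∈ N) (hσ : σ ∉ N) (hsq : σ * σ ∈ N) :
    ∃ H : Subgroup G, N ≤ H ∧ (N.subgroupOf H).Normal ∧ (N.subgroupOf H).index = 2 := by
  have hconj' : ∀ n ∈ N, σ⁻¹ * n * σ ∈ N := fun n hn => by
    have h := N.mul_mem (N.mul_mem (N.inv_mem hsq) (hconj n hn)) hsq
    convert h using 1
    group
  let H : Subgroup G :=
    { carrier := {x | x ∈ N ∨ x * σ⁻¹ ∈ N}
      one_mem' := Or.inl (one_mem N)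
      mul_mem' := by
        rintro x y (hx | hx) (hy | hy)
        · exact Or.inl (N.mul_mem hx hy)
        · exact Or.inr (by rw [mul_assoc]; exact N.mul_mem hx hy)
        · refine Or.inr ?_
          have h := N.mul_mem hx (hconj y hy)
          convert h using 1
          group
        · refine Or.inl ?_
          have h := N.mul_mem (N.mul_mem hx (hconj _ hy)) hsq
          convert h using 1
          group
      inv_mem' := by
        rintro x (hx | hx)
        · exact Or.inl (N.inv_mem hx)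
        · refine Or.inr ?_
          have h := N.mul_mem (hconj' _ (N.inv_mem hx)) (N.inv_mem hsq)
          convert h using 1
          group }
  refine ⟨H, fun x hx => Or.inl hx, ?_⟩
  have hidx : (N.subgroupOf H).index = 2 := by
    rw [Subgroup.index_eq_two_iff]
    refine ⟨⟨σ, Or.inr (by rw [mul_inv_cancel]; exact one_mem N)⟩, fun b => ?_⟩
    simp only [Subgroup.mem_subgroupOf, Subgroup.coe_mul]
    rcases b.2 with hb | hb
    · exact Or.inr ⟨hb, fun h => hσ (by
        have h' := N.mul_mem (N.inv_mem hb) h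
        rwa [← mul_assoc, inv_mul_cancel, one_mul] at h')⟩
    · have h1 : (b : G) * σ ∈ N := by
        have h := N.mul_mem hb hsq
        convert h using 1
        group
      refine Or.inl ⟨h1, fun h => hσ ?_⟩
      have h' := N.mul_mem (N.inv_mem hb) h
      convert h' using 1
      group
  exact ⟨Subgroup.normal_of_index_eq_two hidx, hidx⟩

/-- A group isomorphic to J₃ has a subgroup with a normal subgroup of index two isomorphic to
`SL₂(16)`. -/
theorem exists_subgroup_of_isoJ3 {G : Type*} [Group G] (hJ : Cfsg.Spor.IsoJ3 G) :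
    ∃ (H : Subgroup G) (N : Subgroup H) (K : Type) (_ : Field K) (_ : Fintype K),
      N.Normal ∧ N.index = 2 ∧ Fintype.card K = 16 ∧
        Nonempty (N ≃* Matrix.SpecialLinearGroup (Fin 2) K) := by
  obtain ⟨F, _, _, ω, hF, hω, ⟨e⟩⟩ := hJ
  have hg := good_of_card hF hω
  let ψ : ↥(threeJ3 F ω) →* G :=
    e.symm.toMonoidHom.comp (QuotientGroup.mk' (Subgroup.center ↥(threeJ3 F ω)))
  have hψ : ∀ x, ψ x = 1 → x ∈ Subgroup.center ↥(threeJ3 F ω) := fun x hx => by
    have h1 : e.symm (QuotientGroup.mk' (Subgroup.center ↥(threeJ3 F ω)) x) = 1 := hx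
    rw [← map_one e.symm] at h1
    exact (QuotientGroup.eq_one_iff x).1 (e.symm.injective h1)
  obtain ⟨u, h, t, s, hr, hu, hss, hs4, hcu, hch, hct, hsq⟩ := exists_config hg
  haveI : Fact (Nat.Prime 2) := ⟨Nat.prime_two⟩
  let K := GaloisField 2 4
  letI : Fintype K := Fintype.ofFinite K
  have hK : Fintype.card K = 16 := by
    rw [← Nat.card_eq_fintype_card, GaloisField.card 2 4 (by norm_num)]; norm_num
  have hr' : Rels (ψ u) (ψ h) (ψ t) := by
    refine ⟨?_, ?_, ?_, ?_⟩
    · rw [← map_mul, hr.sq, map_one]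
    · simpa only [map_mul, map_inv] using congrArg ψ hr.braid
    · simpa only [map_mul, map_inv, map_pow] using congrArg ψ hr.step
    · simpa only [map_mul, map_inv, map_pow] using congrArg ψ hr.twist
  obtain ⟨f, hrange, hinj⟩ := exists_hom hK hr'
  have hinj := hinj fun hu1 => hu (hψ u hu1)
  have hmap : (Subgroup.closure {u, h, t}).map ψ = f.range := by
    rw [hrange, MonoidHom.map_closure]
    simp [Set.image_insert_eq]
  have hin : ∀ {x}, x ∈ Subgroup.closure {u, h, t} → ψ x ∈ f.range := fun {x} hx =>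
    hmap ▸ Subgroup.mem_map_of_mem ψ hx
  have hconj : ∀ n ∈ f.range, ψ s * n * (ψ s)⁻¹ ∈ f.range := by
    rw [hrange]
    intro n hn
    induction hn using Subgroup.closure_induction with
    | mem z hz =>
      rw [← hrange]
      rcases hz with rfl | rfl | rfl <;> rw [← map_mul, ← map_inv, ← map_mul]
      exacts [hin hcu, hin hch, hin hct]
    | one => simp
    | mul x y _ _ hx hy =>
      have h' := Subgroup.mul_mem _ hx hy
      convert h' using 1
      group
    | inv x _ hx =>
      have h' := Subgroup.inv_mem _ hx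
      convert h' using 1
      group
  have hσ : ψ s ∉ f.range := by
    rintro ⟨x, hx⟩
    haveI := charP_two hK
    have hx4 : x ^ 4 = 1 := hinj (by rw [map_pow, hx, ← map_pow, hs4, map_one, map_one])
    refine hss (hψ _ ?_)
    rw [map_mul, ← hx, ← map_mul, sq_eq_one x hx4, map_one]
  obtain ⟨H, hle, hn, hidx⟩ := exists_index_two hconj hσ (by rw [← map_mul]; exact hin hsq)
  exact ⟨H, f.range.subgroupOf H, K, inferInstance, inferInstance, hn, hidx, hK,
    ⟨(Subgroup.subgroupOfEquivOfLe hle).trans (MonoidHom.ofInjective hinj).symm⟩⟩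

end Cfsg.Agent.Lib.J3L216
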